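import Groth.Agent.Lib.Constr24.Descent
import Mathlib.AlgebraicGeometry.Morphisms.Finite

/-!
# Local constancy descends along finite surjective morphisms
-/

universe u

set_option maxHeartbeats 400000

open CategoryTheory CategoryTheory.Limits AlgebraicGeometry Opposite Topology
open Groth.Agent.EtSite Groth.Agent.EtStalk Groth.Agent.LocConst24

namespace Groth.Agent.StrataDesc24

variable {X : Scheme.{u}}

/-- Whether sections give the stalk depends only on the underlying point. -/
theorem bij_of_fibPt_eq {F : EtCoh.Ab X} {U : X.Etale} {M : Type} [AddCommGroup M]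
    (σ : M →+ F.obj.obj (op U)) {K Ω : Type u} [Field K] [IsSepClosed K] [Field Ω] [IsSepClosed Ω]
    {ξ : Spec (CommRingCat.of K) ⟶ X} {η : Spec (CommRingCat.of Ω) ⟶ X} (a : fib ξ U) (z : fib η U)
    (h : fibPt z = fibPt a) (hb : Function.Bijective fun m => germ ξ F a (σ m)) :
    Function.Bijective fun m => germ η F z (σ m) := by
  have key : ∀ {L : Type u} [Field L] [IsSepClosed L] {ζ : Spec (CommRingCat.of L) ⟶ X} (c : fib ζ U)
      (b : Spec (CommRingCat.of L) ⟶
        Spec (CommRingCat.of (SeparableClosure (U.left.residueField (fibPt a))))),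
      b ≫ geomPt U.left (fibPt a) = c.left →
      ((Function.Bijective fun m => germ ζ F c (σ m)) ↔
        Function.Bijective fun m => germ (geomPt U.left (fibPt a) ≫ U.hom) F
          (Over.homMk (geomPt U.left (fibPt a)) rfl : fib (geomPt U.left (fibPt a) ≫ U.hom) U) (σ m)) := by
    intro L _ _ ζ c b hb
    have hζ : b ≫ (geomPt U.left (fibPt a) ≫ U.hom) = ζ :=
      (Category.assoc _ _ _).symm.trans ((congrArg (· ≫ U.hom) hb).trans (Over.w c))
    subst hζ
    have hc : (resPoint b (geomPt U.left (fibPt a) ≫ U.hom)).hom.app U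
        (Over.homMk (geomPt U.left (fibPt a)) rfl) = c := Over.OverMorphism.ext hb
    exact bij_spec_iff _ hc σ ((ConcreteCategory.isIso_iff_bijective _).2 (bijective_stalkRes b _ F))
  obtain ⟨b₁, hb₁⟩ := exists_factor_geomPt a.left (fibPt a) rfl
  obtain ⟨b₂, hb₂⟩ := exists_factor_geomPt z.left (fibPt a) h
  exact (key z b₂ hb₂).2 ((key a b₁ hb₁).1 hb)

/-- Stalks of a locally constant sheaf are finite. -/
theorem finite_stalk_of_loc {F : EtCoh.Ab X} (h : Loc F) (x : X) {Ω : Type u} [Field Ω] [IsSepClosed Ω]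
    (ξ : Spec (CommRingCat.of Ω) ⟶ X) (hx : ξ default = x) : Finite ((EtCoh.stalk ξ).obj F) := by
  obtain ⟨U, w, hw, M, _, hM, σ, hσ⟩ := h x
  obtain ⟨a, -⟩ := Scheme.pointSmallEtaleFiberObjToPreimage_surjective ξ hx U ⟨w, hw⟩
  exact Finite.of_surjective _ (hσ Ω ξ a).2

variable {W : Scheme.{u}} (p : W ⟶ X)

/-- Sections pulled back give the stalk at a point iff the sections give it at the image. -/
theorem bij_pull_iff {F : EtCoh.Ab X} {U : X.Etale} {M : Type} [AddCommGroup M]
    (σ : M →+ F.obj.obj (op U)) {Ω : Type u} [Field Ω] [IsSepClosed Ω]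
    (ζ : Spec (CommRingCat.of Ω) ⟶ W) (z : fib ζ ((EtCoh.bc p).obj U)) :
    (Function.Bijective fun m => germ ζ ((EtCoh.pull p).obj F) z
        ((((EtCoh.pullPushAdj p).unit.app F).hom.app (op U)).hom.comp σ m)) ↔
      Function.Bijective fun m => germ (ζ ≫ p) F (dropFib p ζ z) (σ m) := by
  have hz : liftFib p ζ (dropFib p ζ z) = z := by
    refine Over.OverMorphism.ext (pullback.hom_ext ?_ ?_)
    · exact pullback.lift_fst _ _ _
    · exact (pullback.lift_snd _ _ _).trans (Over.w z).symm
  have he : (fun m => germ ζ ((EtCoh.pull p).obj F) z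
      ((((EtCoh.pullPushAdj p).unit.app F).hom.app (op U)).hom.comp σ m)) =
      stalkPull p ζ F ∘ fun m => germ (ζ ≫ p) F (dropFib p ζ z) (σ m) := by
    funext m
    refine Eq.trans ?_ (germ_stalkPull p ζ F (dropFib p ζ z) (σ m)).symm
    rw [hz]
    rfl
  rw [he]
  exact (ConcreteCategory.bijective_of_isIso (stalkPull p ζ F)).of_comp_iff' _

/-- A sheaf which becomes finite locally constant on a finite surjective cover is so itself. -/
theorem flc_of_pull_finite_surjective [IsLocallyNoetherian X] [IsFinite p] [Surjective p]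
    (F : EtCoh.Ab X) (h : EtCoh.IsFiniteLocallyConstant ((EtCoh.pull p).obj F)) :
    EtCoh.IsFiniteLocallyConstant F := by
  haveI : IsLocallyNoetherian W := LocallyOfFiniteType.isLocallyNoetherian p
  have hW : ∀ (Ω : Type u) [Field Ω] [IsSepClosed Ω] (ζ : Spec (CommRingCat.of Ω) ⟶ W),
      Finite ((EtCoh.stalk ζ).obj ((EtCoh.pull p).obj F)) :=
    fun Ω _ _ ζ => finite_stalk_of_loc (loc_of_flc h) (ζ default) ζ rfl
  have hspec := (flc_iff_specializations_iso _ hW).1 h
  refine flc_of_loc fun x => ?_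
  haveI : Finite ((EtCoh.stalk (algPt X x)).obj F) := by
    obtain ⟨w, hw⟩ := p.surjective x
    haveI := hW _ (algPt W w)
    refine Constr24.finite_stalk_congr F _ (algPt W w ≫ p) ?_
      (Finite.of_injective _ (ConcreteCategory.bijective_of_isIso (stalkPull p (algPt W w) F)).1)
    rw [Scheme.Hom.comp_apply, algPt_default, algPt_default, hw]
  obtain ⟨U, a, M, _, hM, σ, hσ⟩ := exists_sec_bij (algPt X x) F
  obtain ⟨N, haN, hN⟩ := exists_open_common_gen U (fibPt a)
  let q : ((EtCoh.bc p).obj U).left ⟶ U.left := pullback.fst U.hom p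
  haveI : IsFinite q := inferInstanceAs (IsFinite (pullback.fst U.hom p))
  haveI : Surjective q := inferInstanceAs (Surjective (pullback.fst U.hom p))
  have trans : ∀ (g v : U.left), g ⤳ v → ∀ {K Ω : Type u} [Field K] [IsSepClosed K] [Field Ω]
      [IsSepClosed Ω] {ξ : Spec (CommRingCat.of K) ⟶ X} {η : Spec (CommRingCat.of Ω) ⟶ X}
      (c : fib ξ U) (e : fib η U), fibPt c = g → fibPt e = v →
      ((Function.Bijective fun m => germ ξ F c (σ m)) ↔
        Function.Bijective fun m => germ η F e (σ m)) := by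
    intro g v hgv K Ω _ _ _ _ ξ η c e hc he
    obtain ⟨g', hg'⟩ := q.surjective g
    obtain ⟨v', hgv', hv'⟩ := q.isClosedMap.specializingMap (hg'.symm ▸ hgv : q g' ⤳ v)
    obtain ⟨L, _, _, ζ, w, hw⟩ := LocConst24.exists_algFib ((EtCoh.bc p).obj U) g'
    obtain ⟨L', _, _, ζ', w', hw'⟩ := LocConst24.exists_algFib ((EtCoh.bc p).obj U) v'
    obtain ⟨φ, hφ⟩ := exists_hom_of_specializes w' w (by rw [hw, hw']; exact hgv')
    have hiff := bij_spec_iff φ hφ ((((EtCoh.pullPushAdj p).unit.app F).hom.app (op U)).hom.comp σ)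
      (hspec _ _ _ _ φ)
    replace hiff := (bij_pull_iff p σ ζ w).symm.trans (hiff.trans (bij_pull_iff p σ ζ' w'))
    have h1 : fibPt (dropFib p ζ w) = g := (congrArg q hw).trans hg'
    have h2 : fibPt (dropFib p ζ' w') = v := (congrArg q hw').trans hv'
    exact ⟨fun hb => bij_of_fibPt_eq σ _ e (he.trans h2.symm)
        (hiff.1 (bij_of_fibPt_eq σ c _ (h1.trans hc.symm) hb)),
      fun hb => bij_of_fibPt_eq σ _ c (hc.trans h1.symm)
        (hiff.2 (bij_of_fibPt_eq σ e _ (h2.trans he.symm) hb))⟩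
  have hbij : ∀ (Ω : Type u) [Field Ω] [IsAlgClosed Ω] (η : Spec (CommRingCat.of Ω) ⟶ X)
      (z : fib η (sub U N)), Function.Bijective fun m => germ η F z (resSec (subHom U N) σ m) := by
    intro Ω _ _ η z₀
    simp only [germ_resSec]
    set z := (Scheme.pointSmallEtale η).fiber.map (subHom U N) z₀
    obtain ⟨g, hga, hgz⟩ := hN (fibPt z) (z₀.left (default : Spec (CommRingCat.of Ω))).2
    obtain ⟨L, _, _, ζ, c, hc⟩ := LocConst24.exists_algFib U g
    exact (trans g _ hgz c z hc rfl).1 ((trans g _ hga c a hc rfl).2 hσ)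
  obtain ⟨θ⟩ := nonempty_triv_of_alg hbij
  refine ⟨sub U N, ⟨fibPt a, haN⟩, ?_, M, inferInstance, hM, _, bijAt_rho θ⟩
  show U.hom (fibPt a) = x
  have h1 : a.left ≫ U.hom = algPt X x := Over.w a
  exact (congrArg (fun r : Spec (CommRingCat.of (AlgebraicClosure (X.residueField x))) ⟶ X =>
    r default) h1).trans (algPt_default X x)

end Groth.Agent.StrataDesc24
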