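import Groth.Agent.Lib.StrataDesc24.FiniteSurj
import Groth.Agent.Lib.Constr24.Strata
import Groth.Agent.Lib.GenFin12.Basic
import Groth.Agent.Lib.RedSep.Basic

/-!
# Strata adapted to a family of sheaves descend along surjective finite type morphisms
-/

universe u v

set_option maxHeartbeats 400000

open CategoryTheory CategoryTheory.Limits AlgebraicGeometry Opposite Topology
open TopologicalSpace (Closeds)
open Groth.Agent.Constr24

namespace Groth.Agent.StrataDesc24

/-- The reduced subscheme on an irreducible closed subset. -/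
theorem exists_integral_closed {X : Scheme.{u}} (η : X) :
    ∃ (Z : Scheme.{u}) (c : Z ⟶ X) (_ : IsIntegral Z), IsClosedImmersion c ∧
      Set.range c = closure {η} ∧ c (genericPoint Z) = η := by
  let I := Scheme.IdealSheafData.vanishingIdeal (X := X) (Closeds.closure {η})
  haveI : IsReduced I.subscheme := RedSepLib.isReduced_vanishingIdeal_subscheme _
  have hr : Set.range I.subschemeι = closure {η} := by
    rw [Scheme.IdealSheafData.range_subschemeι, Scheme.IdealSheafData.coe_support_vanishingIdeal,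
      TopologicalSpace.Closeds.coe_closure]
  obtain ⟨b, hb⟩ : η ∈ Set.range I.subschemeι := by rw [hr]; exact subset_closure rfl
  have hdense : ∀ a, b ⤳ a := fun a => by
    rw [← I.subschemeι.isEmbedding.isInducing.specializes_iff, hb]
    exact specializes_iff_mem_closure.2 (hr.le ⟨a, rfl⟩)
  haveI : PreirreducibleSpace I.subscheme := ⟨by
    rw [← Set.eq_univ_of_forall (fun a => (hdense a).mem_closure)]
    exact isIrreducible_singleton.closure.2⟩
  haveI : IrreducibleSpace I.subscheme := ⟨⟨b⟩⟩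
  haveI : IsIntegral I.subscheme := isIntegral_of_irreducibleSpace_of_isReduced _
  refine ⟨I.subscheme, I.subschemeι, inferInstance, inferInstance, hr, ?_⟩
  have h : genericPoint I.subscheme = b :=
    ((genericPoint_specializes b).antisymm (hdense _)).eq
  rw [h, hb]

/-- A family of sheaves locally constant on a scheme of finite type meeting the generic fibre is
locally constant on a common nonempty open. -/
theorem exists_open_flc {X T : Scheme.{u}} [IsIntegral X] [IsLocallyNoetherian X] (h : T ⟶ X)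
    [LocallyOfFiniteType h] (t : T) (ht : h t = genericPoint X) {ι : Type v} (F : ι → EtCoh.Ab X)
    (hF : ∀ k, EtCoh.IsFiniteLocallyConstant ((EtCoh.pull h).obj (F k))) :
    ∃ D : X.Opens, genericPoint X ∈ D ∧
      ∀ k, EtCoh.IsFiniteLocallyConstant ((EtCoh.pull D.ι).obj (F k)) := by
  obtain ⟨V, hV, hxV, -⟩ :=
    exists_isAffineOpen_mem_and_subset (X := X) (x := genericPoint X) (U := ⊤) trivial
  obtain ⟨O, hO, htO, hOV⟩ := exists_isAffineOpen_mem_and_subset (X := T) (x := t) (U := h ⁻¹ᵁ V)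
    (show h t ∈ V by rw [ht]; exact hxV)
  haveI : IsAffine O.toScheme := hO
  let f : O.toScheme ⟶ X := O.ι ≫ h
  haveI : IsLocallyNoetherian O.toScheme := LocallyOfFiniteType.isLocallyNoetherian f
  haveI : IsNoetherian O.toScheme := {}
  -- a closed point of the generic fibre
  let S : Set O.toScheme := f ⁻¹' {genericPoint X}
  haveI : CompactSpace S := isCompact_iff_compactSpace.1 (TopologicalSpace.NoetherianSpace.isCompact _)
  obtain ⟨⟨x, hx⟩, -, hxc⟩ := (isClosed_univ (X := S)).exists_closed_singleton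
    ⟨⟨⟨t, htO⟩, ht⟩, trivial⟩
  obtain ⟨Z, j, _, _, hjr, hjg⟩ := exists_integral_closed x
  haveI : IsAffine Z := isAffine_of_isAffineHom j
  let φ : Z ⟶ X := j ≫ f
  have hφg : φ (genericPoint Z) = genericPoint X := by
    rw [Scheme.Hom.comp_apply, hjg]; exact hx
  haveI : IsDominant φ := ⟨by
    refine dense_iff_closure_eq.2 (Set.eq_univ_of_univ_subset ?_)
    rw [← (genericPoint_spec X).def]
    exact closure_mono (Set.singleton_subset_iff.2 ⟨_, hφg⟩)⟩
  have hqf : φ.QuasiFiniteAt (genericPoint Z) := by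
    refine GenFin12.quasiFiniteAt_of_fibre_eq φ fun z hz => j.isEmbedding.injective ?_
    rw [hjg]
    have hzS : j z ∈ S := by
      show f (j z) = genericPoint X
      rw [← Scheme.Hom.comp_apply]; exact hz.trans hφg
    have hxz : x ⤳ j z := specializes_iff_mem_closure.2 (hjr.le ⟨z, rfl⟩)
    have h1 : (⟨x, hx⟩ : S) ⤳ ⟨j z, hzS⟩ :=
      Topology.IsInducing.subtypeVal.specializes_iff.1 hxz
    exact congrArg Subtype.val (Set.mem_singleton_iff.1 (h1.mem_closed hxc rfl))
  have he : (⊤ : Z.Opens) ≤ φ ⁻¹ᵁ V := fun z _ => hOV (j z).2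
  haveI : Nonempty (⊤ : Z.Opens) := ⟨⟨genericPoint Z, trivial⟩⟩
  obtain ⟨D, -, hD, -, hfin⟩ := GenFin12.exists_isFinite φ hqf (isAffineOpen_top Z) hV he
  refine ⟨D, hD, fun k => ?_⟩
  let p := ((⊤ : Z.Opens).ι ≫ φ) ∣_ D
  haveI : IsFinite p := hfin
  haveI : Surjective p := ⟨fun d => by
    obtain ⟨w, hw⟩ : (⟨genericPoint X, hD⟩ : D.toScheme) ∈ Set.range p := by
      refine ⟨⟨⟨genericPoint Z, trivial⟩, show φ (genericPoint Z) ∈ D by rw [hφg]; exact hD⟩, ?_⟩
      exact Subtype.ext ((morphismRestrict_base_coe _ D _).trans hφg)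
    have hd : (⟨genericPoint X, hD⟩ : D.toScheme) ⤳ d :=
      Topology.IsInducing.subtypeVal.specializes_iff.1 (genericPoint_specializes d.1)
    exact hd.mem_closed p.isClosedMap.isClosed_range ⟨w, hw⟩⟩
  refine flc_of_pull_finite_surjective p _ (flc_of_comp p D.ι ?_)
  refine flc_congr (g := ((((⊤ : Z.Opens).ι ≫ φ) ⁻¹ᵁ D).ι ≫ (⊤ : Z.Opens).ι ≫ j ≫ O.ι) ≫ h)
    ?_ (flc_comp _ _ (hF k))
  show _ = ((⊤ : Z.Opens).ι ≫ φ) ∣_ D ≫ D.ι
  rw [morphismRestrict_ι]
  simp only [φ, f, Category.assoc]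

/-- Strata of a closed subset along which all members of the family are locally constant. -/
def HasStrata {X : Scheme.{u}} {ι : Type v} (F : ι → EtCoh.Ab X) (C : Set X) : Prop :=
  ∃ (κ : Type) (_ : Finite κ) (T : κ → Scheme.{u}) (g : ∀ a, T a ⟶ X),
    (∀ a, IsImmersion (g a)) ∧ Pairwise (fun a b => Disjoint (Set.range (g a)) (Set.range (g b))) ∧
      (⋃ a, Set.range (g a)) = C ∧
      ∀ k a, EtCoh.IsFiniteLocallyConstant ((EtCoh.pull (g a)).obj (F k))

variable {X : Scheme.{u}} {ι : Type v} {F : ι → EtCoh.Ab X}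

theorem HasStrata.inter_open {C : Set X} (h : HasStrata F C) (U : X.Opens) :
    HasStrata F ((U : Set X) ∩ C) := by
  obtain ⟨κ, hκ, T, g, hg, hd, hu, hl⟩ := h
  have hr : ∀ a, Set.range (pullback.fst U.ι (g a) ≫ U.ι) = (U : Set X) ∩ Set.range (g a) := fun a => by
    rw [Scheme.Pullback.range_fst_comp, U.range_ι]
  refine ⟨κ, hκ, fun a => pullback U.ι (g a), fun a => pullback.fst U.ι (g a) ≫ U.ι, fun a => ?_,
    fun a b hab => ?_, ?_, fun k a => ?_⟩
  · haveI := hg a
    infer_instance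
  · show Disjoint (Set.range _) (Set.range _)
    rw [hr, hr]
    exact (hd hab).mono Set.inter_subset_right Set.inter_subset_right
  · simp_rw [hr, ← Set.inter_iUnion, hu]
  · exact flc_congr pullback.condition.symm (flc_comp _ _ (hl k a))

theorem HasStrata.union {A B : Set X} (hA : HasStrata F A) (hB : HasStrata F B) (hAB : Disjoint A B) :
    HasStrata F (A ∪ B) := by
  obtain ⟨κ, _, T, g, hg, hd, hu, hl⟩ := hA
  obtain ⟨μ, _, T', g', hg', hd', hu', hl'⟩ := hB
  refine ⟨κ ⊕ μ, inferInstance, Sum.elim T T', fun a => Sum.rec (motive := fun a => Sum.elim T T' a ⟶ X)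
    g g' a, ?_, ?_, ?_, ?_⟩
  · rintro (a | a)
    · exact hg a
    · exact hg' a
  · have hgA : ∀ a, Set.range (g a) ⊆ A := fun a => hu ▸ Set.subset_iUnion (fun a => Set.range (g a)) a
    have hgB : ∀ a, Set.range (g' a) ⊆ B := fun a => hu' ▸ Set.subset_iUnion (fun a => Set.range (g' a)) a
    rintro (a | a) (b | b) hab
    · exact hd fun h => hab (congrArg Sum.inl h)
    · exact hAB.mono (hgA a) (hgB b)
    · exact hAB.symm.mono (hgB a) (hgA b)
    · exact hd' fun h => hab (congrArg Sum.inr h)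
  · rw [Set.iUnion_sum]
    exact congrArg₂ (· ∪ ·) hu hu'
  · rintro k (a | a)
    · exact hl k a
    · exact hl' k a

theorem hasStrata_of_generic [IsNoetherian X]
    (hgen : ∀ η : X, ∃ U : X.Opens, η ∈ U ∧ HasStrata F ((U : Set X) ∩ closure {η})) (C : Closeds X) :
    HasStrata F (C : Set X) := by
  induction C using WellFoundedLT.induction with
  | _ C ih =>
  by_cases hC : (C : Set X).Nonempty
  swap
  · refine ⟨Empty, inferInstance, fun a => a.elim, fun a => a.elim, fun a => a.elim, fun a => a.elim,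
      ?_, fun _ a => a.elim⟩
    rw [Set.not_nonempty_iff_eq_empty.1 hC, Set.iUnion_of_empty]
  by_cases hirr : IsPreirreducible (C : Set X)
  · obtain ⟨η, hη⟩ := QuasiSober.sober (⟨hC, hirr⟩ : IsIrreducible (C : Set X)) C.isClosed
    obtain ⟨U, hηU, hU⟩ := hgen η
    rw [hη.def] at hU
    let C' : Closeds X := ⟨(C : Set X) \ U, C.isClosed.sdiff U.2⟩
    have hlt : C' < C := lt_of_le_of_ne (fun x hx => hx.1) fun e =>
      ((show η ∈ (C' : Set X) by rw [e]; exact hη.mem).2 hηU)
    have := hU.union (ih C' hlt) (Set.disjoint_left.2 fun x hx hx' => hx'.2 hx.1)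
    convert this using 1
    ext x
    show x ∈ (C : Set X) ↔ x ∈ (U : Set X) ∩ C ∪ (C : Set X) \ U
    by_cases hxU : x ∈ (U : Set X) <;> simp [hxU]
  · rw [isPreirreducible_iff_isClosed_union_isClosed] at hirr
    push_neg at hirr
    obtain ⟨A, B, hA, hB, hAB, hnA, hnB⟩ := hirr
    let C₁ : Closeds X := ⟨(C : Set X) ∩ A, C.isClosed.inter hA⟩
    let C₂ : Closeds X := ⟨(C : Set X) ∩ B, C.isClosed.inter hB⟩
    have h₁ : C₁ < C := lt_of_le_of_ne (fun x hx => hx.1) fun e =>
      hnA fun x hx => ((show x ∈ (C₁ : Set X) by rw [e]; exact hx)).2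
    have h₂ : C₂ < C := lt_of_le_of_ne (fun x hx => hx.1) fun e =>
      hnB fun x hx => ((show x ∈ (C₂ : Set X) by rw [e]; exact hx)).2
    let O : X.Opens := ⟨(C₁ : Set X)ᶜ, C₁.isClosed.isOpen_compl⟩
    have := (ih C₁ h₁).union ((ih C₂ h₂).inter_open O)
      (Set.disjoint_left.2 fun x hx hx' => hx'.1 hx)
    convert this using 1
    ext x
    show x ∈ (C : Set X) ↔ x ∈ (C : Set X) ∩ A ∪ ((C : Set X) ∩ A)ᶜ ∩ ((C : Set X) ∩ B)
    constructor
    · intro hx
      by_cases hxA : x ∈ A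
      · exact Or.inl ⟨hx, hxA⟩
      · exact Or.inr ⟨fun h => hxA h.2, hx, (hAB hx).resolve_left hxA⟩
    · rintro (h | h)
      · exact h.1
      · exact h.2.1

theorem exists_strata_of_pull {X' : Scheme.{u}} [IsNoetherian X] [IsNoetherian X'] (q : X' ⟶ X)
    [Surjective q] [LocallyOfFiniteType q] {n : ℕ} (T : Fin n → Scheme.{u}) (g : ∀ i, T i ⟶ X')
    [∀ i, IsImmersion (g i)] (hcov : (⋃ i, Set.range (g i)) = Set.univ)
    (hF : ∀ k i, EtCoh.IsFiniteLocallyConstant ((EtCoh.pull (g i)).obj ((EtCoh.pull q).obj (F k)))) :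
    ∃ (m : ℕ) (T₀ : Fin m → Scheme.{u}) (g₀ : ∀ j, T₀ j ⟶ X),
      (∀ j, IsImmersion (g₀ j)) ∧
      Pairwise (fun j j' => Disjoint (Set.range (g₀ j)) (Set.range (g₀ j'))) ∧
      (⋃ j, Set.range (g₀ j)) = Set.univ ∧
      ∀ k j, EtCoh.IsFiniteLocallyConstant ((EtCoh.pull (g₀ j)).obj (F k)) := by
  have hgen : ∀ η : X, ∃ U : X.Opens, η ∈ U ∧ HasStrata F ((U : Set X) ∩ closure {η}) := by
    intro η
    obtain ⟨x', hx'⟩ := q.surjective η
    obtain ⟨i, t, rfl⟩ := Set.mem_iUnion.1 (hcov.ge (Set.mem_univ x'))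
    obtain ⟨Z, c, _, _, hcr, hcg⟩ := exists_integral_closed η
    haveI : IsLocallyNoetherian Z := LocallyOfFiniteType.isLocallyNoetherian c
    have hm : (g i ≫ q) t = c (genericPoint Z) := by
      rw [Scheme.Hom.comp_apply, hcg]; exact hx'
    obtain ⟨w, -, hw⟩ := Scheme.Pullback.exists_preimage_pullback (f := g i ≫ q) (g := c) t _ hm
    haveI : LocallyOfFiniteType (pullback.snd (g i ≫ q) c) := inferInstance
    obtain ⟨D, hD, hl⟩ := exists_open_flc (pullback.snd (g i ≫ q) c) w hw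
      (fun k => (EtCoh.pull c).obj (F k)) fun k => flc_of_comp _ _ (flc_congr pullback.condition
        (flc_comp _ _ (flc_iso ((EtCore.pullComp (g i) q).app (F k)).symm (hF k i))))
    obtain ⟨U, hUo, hUD⟩ := c.isEmbedding.isInducing.isOpen_iff.1 D.2
    have hηU : η ∈ U := by
      have : genericPoint Z ∈ c ⁻¹' U := hUD ▸ hD
      rwa [Set.mem_preimage, hcg] at this
    refine ⟨⟨U, hUo⟩, hηU, Unit, inferInstance, fun _ => D.toScheme, fun _ => D.ι ≫ c,
      fun _ => inferInstance, fun a b hab => absurd (Subsingleton.elim a b) hab, ?_, fun k _ =>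
      flc_iso ((EtCore.pullComp D.ι c).app (F k)).symm (hl k)⟩
    rw [Set.iUnion_const]
    show Set.range (c ∘ D.ι) = U ∩ closure {η}
    rw [Set.range_comp, D.range_ι, show (D : Set Z) = c ⁻¹' U from hUD.symm,
      Set.image_preimage_eq_inter_range, hcr]
  obtain ⟨κ, _, T₀, g₀, h1, h2, h3, h4⟩ := hasStrata_of_generic hgen ⊤
  obtain ⟨e⟩ : Nonempty (κ ≃ Fin (Nat.card κ)) := ⟨Finite.equivFin κ⟩
  refine ⟨Nat.card κ, fun j => T₀ (e.symm j), fun j => g₀ (e.symm j), fun j => h1 _,
    fun a b hab => h2 fun h => hab (e.symm.injective h), ?_, fun k j => h4 k _⟩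
  rw [← TopologicalSpace.Closeds.coe_top (α := X), ← h3]
  exact e.symm.surjective.iUnion_comp fun a => Set.range (g₀ a)

end Groth.Agent.StrataDesc24
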